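import Mathlib.GroupTheory.Sylow
import Mathlib.GroupTheory.Nilpotent
import Mathlib.GroupTheory.NoncommPiCoprod
import Cfsg.Agent.Lib.PLocal.FixedPointFree

/-!
Gorenstein–Herstein: a finite group with a fixed-point-free automorphism `σ` satisfying `σ ^ 4 = 1`
is solvable.  Put `z = σ * σ`.  For `z x = x⁻¹` and `z d = d` the elements `x` and `d * σ x * d⁻¹`
commute; hence the conjugates of `x` and `σ x` under the centraliser of `z` generate a nilpotent
`σ`-invariant subgroup, so the inverted `q`-elements all lie in the invariant Sylow `q`-subgroup.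
Counting then shows that inverted elements of coprime order commute.
-/

set_option autoImplicit false
set_option linter.style.haveILetI false

open scoped Pointwise commutatorElement

namespace Cfsg.Agent.FpfFour

open Cfsg.Agent FixedPointFreeThompson

universe u

variable {R : Type u} [Group R] [Finite R] {σ : MulAut R}

/-- The product identity of a fixed-point-free automorphism of order dividing four. -/
theorem norm_eq_one (h4 : σ ^ 4 = 1) (hfpf : ∀ x, σ x = x → x = 1) (r : R) :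
    r * σ r * σ (σ r) * σ (σ (σ r)) = 1 := by
  obtain ⟨x, hx⟩ := exists_eq_commutatorMap hfpf r⁻¹
  have hr : r = x⁻¹ * σ x := by
    rw [← inv_inv r, ← hx, mul_inv_rev, inv_inv]
  have h : σ (σ (σ (σ x))) = x := by
    have := DFunLike.congr_fun h4 x
    simpa [pow_succ, pow_zero] using this
  subst hr
  simp [h, mul_assoc]

theorem z_mul_self (h4 : σ ^ 4 = 1) (hfpf : ∀ x, σ x = x → x = 1) (r : R) :
    σ (σ (r * σ r)) = (r * σ r)⁻¹ := by
  refine eq_inv_of_mul_eq_one_right ?_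
  rw [map_mul, map_mul]
  simpa [mul_assoc] using norm_eq_one h4 hfpf r

theorem odd_card (h4 : σ ^ 4 = 1) (hfpf : ∀ x, σ x = x → x = 1) : Odd (Nat.card R) := by
  haveI : Fact (Nat.Prime 2) := ⟨Nat.prime_two⟩
  have hp : IsPGroup 2 (Subgroup.zpowers σ) := by
    intro y
    refine ⟨2, ?_⟩
    obtain ⟨k, hk⟩ := y.2
    apply Subtype.ext
    change (y : MulAut R) ^ (2 ^ 2) = 1
    change σ ^ k = (y : MulAut R) at hk
    have h4' : σ ^ (4 : ℤ) = 1 := by exact_mod_cast h4
    rw [← hk, ← zpow_natCast, ← zpow_mul, mul_comm, show ((2 ^ 2 : ℕ) : ℤ) = 4 by norm_num,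
      zpow_mul, h4', one_zpow]
  have h := hp.card_modEq_card_fixedPoints R
  have h1 : MulAction.fixedPoints (Subgroup.zpowers σ) R = {1} := by
    ext x
    simp only [MulAction.mem_fixedPoints, Set.mem_singleton_iff]
    constructor
    · intro hx
      exact hfpf x (hx ⟨σ, Subgroup.mem_zpowers σ⟩)
    · rintro rfl y
      exact map_one (y : MulAut R)
  rw [h1, Nat.card_coe_set_eq, Set.ncard_singleton] at h
  exact Nat.odd_iff.2 h

theorem eq_one_of_sq (h4 : σ ^ 4 = 1) (hfpf : ∀ x, σ x = x → x = 1) {x : R} (h : x * x = 1) :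
    x = 1 := by
  rw [← orderOf_eq_one_iff]
  refine Nat.dvd_one.1 ?_
  rw [← Nat.Coprime.gcd_eq_one (Nat.coprime_two_left.2 (odd_card h4 hfpf))]
  exact Nat.dvd_gcd (orderOf_dvd_of_pow_eq_one ((sq x).trans h)) (orderOf_dvd_natCard x)

theorem sigma_eq_inv (h4 : σ ^ 4 = 1) (hfpf : ∀ x, σ x = x → x = 1) {d : R} (hd : σ (σ d) = d) :
    σ d = d⁻¹ := by
  have h1 := z_mul_self h4 hfpf d
  have h3 : σ (σ (d * σ d)) = d * σ d := by simp [hd]
  refine eq_inv_of_mul_eq_one_right (eq_one_of_sq h4 hfpf ?_)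
  exact mul_eq_one_iff_eq_inv.2 (h3.symm.trans h1)

theorem commute_fixed (h4 : σ ^ 4 = 1) (hfpf : ∀ x, σ x = x → x = 1) {d e : R}
    (hd : σ (σ d) = d) (he : σ (σ e) = e) : Commute d e := by
  have h := sigma_eq_inv h4 hfpf (d := d * e) (by simp [hd, he])
  rw [map_mul, sigma_eq_inv h4 hfpf hd, sigma_eq_inv h4 hfpf he, mul_inv_rev] at h
  exact Commute.inv_inv_iff.1 h

/-- The centraliser of `σ * σ`. -/
def fixedSub (σ : MulAut R) : Subgroup R where
  carrier := {x | σ (σ x) = x}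
  one_mem' := by simp
  mul_mem' := fun ha hb => by simp only [Set.mem_ofPred_eq, map_mul] at *; rw [ha, hb]
  inv_mem' := fun ha => by simp only [Set.mem_ofPred_eq, map_inv] at *; rw [ha]

omit [Finite R] in
theorem mem_fixedSub {x : R} : x ∈ fixedSub σ ↔ σ (σ x) = x := Iff.rfl

theorem key (h4 : σ ^ 4 = 1) (hfpf : ∀ x, σ x = x → x = 1) {x d : R} (hx : σ (σ x) = x⁻¹)
    (hd : σ (σ d) = d) : Commute x (d * σ x * d⁻¹) := by
  have h := z_mul_self h4 hfpf (x * d)
  have hs : σ (x * d) = σ x * d⁻¹ := by rw [map_mul, sigma_eq_inv h4 hfpf hd]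
  rw [hs, show x * d * (σ x * d⁻¹) = x * (d * σ x * d⁻¹) by group, map_mul, map_mul,
    mul_inv_rev, hx] at h
  have hw : σ (σ (d * σ x * d⁻¹)) = (d * σ x * d⁻¹)⁻¹ := by
    simp [hd, hx, mul_assoc]
  rw [hw] at h
  exact Commute.inv_inv_iff.1 h

theorem key_conj (h4 : σ ^ 4 = 1) (hfpf : ∀ x, σ x = x → x = 1) {x d e : R}
    (hx : σ (σ x) = x⁻¹) (hd : σ (σ d) = d) (he : σ (σ e) = e) :
    Commute (e * x * e⁻¹) (d * σ x * d⁻¹) := by
  have h := key h4 hfpf hx (d := e⁻¹ * d) (by simp [hd, he])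
  have := h.map (MulAut.conj e).toMonoidHom
  simpa [mul_assoc] using this

/-- The set of conjugates of `x` and `σ x` by fixed points of `σ * σ`. -/
def genSet (σ : MulAut R) (x : R) : Set R :=
  {y | ∃ d : R, σ (σ d) = d ∧ (y = d * x * d⁻¹ ∨ y = d * σ x * d⁻¹)}

theorem commutator_central (h4 : σ ^ 4 = 1) (hfpf : ∀ x, σ x = x → x = 1) {x d : R}
    (hx : σ (σ x) = x⁻¹) (hd : σ (σ d) = d) :
    ∀ y ∈ genSet σ x, Commute ((d * x * d⁻¹)⁻¹ * x * (d * x * d⁻¹) * x⁻¹) y := by
  set a := x with ha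
  set b := σ x with hb
  set a' := d * x * d⁻¹ with ha'
  set b' := d * σ x * d⁻¹ with hb'
  have hab : Commute a b := by simpa using key h4 hfpf hx (d := 1) (by simp)
  have hab' : Commute a b' := key h4 hfpf hx hd
  have ha'b : Commute a' b := by
    simpa using key_conj h4 hfpf hx (d := 1) (e := d) (by simp) hd
  have ha'b' : Commute a' b' := key_conj h4 hfpf hx hd hd
  have hy : σ (σ (a * b)) = (a * b)⁻¹ := z_mul_self h4 hfpf x
  have hk := key h4 hfpf hy hd
  have hσ : d * σ (a * b) * d⁻¹ = b' * a'⁻¹ := by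
    rw [map_mul, hx, hb', ha', ha]
    group
  rw [hσ] at hk
  have hL : a * b * (b' * a'⁻¹) = b * b' * (a * a'⁻¹) := by
    rw [← mul_assoc, mul_assoc a b b', (hab.mul_right hab').eq, mul_assoc]
  have hR : b' * a'⁻¹ * (a * b) = b' * b * (a'⁻¹ * a) := by
    rw [mul_assoc b', ← mul_assoc a'⁻¹, (ha'b.inv_left.mul_left hab).eq, ← mul_assoc]
  have heq : b * b' * (a * a'⁻¹) = b' * b * (a'⁻¹ * a) := hL.symm.trans (hk.eq.trans hR)
  have hc : a'⁻¹ * a * a' * a⁻¹ = (b' * b)⁻¹ * (b * b') := by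
    calc a'⁻¹ * a * a' * a⁻¹ = (b' * b)⁻¹ * (b' * b * (a'⁻¹ * a)) * (a * a'⁻¹)⁻¹ := by group
      _ = (b' * b)⁻¹ * (b * b' * (a * a'⁻¹)) * (a * a'⁻¹)⁻¹ := by rw [heq]
      _ = (b' * b)⁻¹ * (b * b') := by group
  rintro y ⟨e, he, rfl | rfl⟩
  · -- the commutator is a word in `b, b'`
    have h1 : Commute b (e * x * e⁻¹) := by
      simpa using (key_conj h4 hfpf hx (d := 1) (by simp) he).symm
    have h2 : Commute b' (e * x * e⁻¹) := (key_conj h4 hfpf hx hd he).symm
    rw [hc]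
    exact (h2.mul_left h1).inv_left.mul_left (h1.mul_left h2)
  · -- the commutator is a word in `a, a'`
    have h1 : Commute a (e * σ x * e⁻¹) := key h4 hfpf hx he
    have h2 : Commute a' (e * σ x * e⁻¹) := key_conj h4 hfpf hx he hd
    exact ((h2.inv_left.mul_left h1).mul_left h2).mul_left h1.inv_left

end Cfsg.Agent.FpfFour
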