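import Cfsg.Agent.Lib.FpfFour.Basic
import Mathlib.GroupTheory.Abelianization.Defs

/-!
Gorenstein–Herstein: invariant Sylow subgroups, the count of inverted elements, and solvability.
-/

set_option autoImplicit false
set_option linter.style.haveILetI false

open scoped Pointwise commutatorElement

namespace Cfsg.Agent.FpfFour

open Cfsg.Agent FixedPointFreeThompson

universe u

variable {R : Type u} [Group R] [Finite R] {σ : MulAut R}

theorem map_eq_of_forall {H : Subgroup R} (h : ∀ x ∈ H, σ x ∈ H) :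
    H.map σ.toMonoidHom = H := by
  refine Subgroup.eq_of_le_of_card_ge ?_
    (le_of_eq (Subgroup.card_map_of_injective σ.injective).symm)
  rintro y ⟨x, hx, rfl⟩
  exact h x hx

omit [Finite R] in
theorem apply_mem {H : Subgroup R} (h : H.map σ.toMonoidHom = H) {x : R} (hx : x ∈ H) :
    σ x ∈ H := h ▸ Subgroup.mem_map_of_mem σ.toMonoidHom hx

/-- There is only one invariant Sylow subgroup for each prime. -/
theorem invariant_sylow_unique (hfpf : ∀ x, σ x = x → x = 1) {q : ℕ} [Fact q.Prime]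
    (P T : Sylow q R) (hP : (P : Subgroup R).map σ.toMonoidHom = P)
    (hT : (T : Subgroup R).map σ.toMonoidHom = T) : T = P := by
  obtain ⟨g, hg⟩ := MulAction.exists_smul_eq R P T
  have h1 : σ g • P = T := by
    refine Sylow.ext ?_
    rw [← hT, ← hg, Sylow.coe_subgroup_smul, Sylow.coe_subgroup_smul]
    conv_lhs => rw [← hP]
    change ((P : Subgroup R).map σ.toMonoidHom).map (MulAut.conj (σ g)).toMonoidHom =
      ((P : Subgroup R).map (MulAut.conj g).toMonoidHom).map σ.toMonoidHom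
    rw [Subgroup.map_map, Subgroup.map_map]
    congr 1
    ext z
    simp
  have h2 : g⁻¹ * σ g ∈ Subgroup.normalizer ((P : Subgroup R) : Set R) := by
    refine Sylow.smul_eq_iff_mem_normalizer.1 ?_
    rw [mul_smul, h1, ← hg, inv_smul_smul]
  set N : Subgroup R := Subgroup.normalizer ((P : Subgroup R) : Set R) with hN
  have hNσ : N.map σ.toMonoidHom = N := map_normalizer hP
  have hsurj : Function.Surjective fun n : N =>
      (⟨(n : R)⁻¹ * σ n, mul_mem (inv_mem n.2) (apply_mem hNσ n.2)⟩ : N) := by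
    refine Finite.injective_iff_surjective.1 fun x y h => Subtype.ext ?_
    have h' : (x : R)⁻¹ * σ x = (y : R)⁻¹ * σ y := congrArg Subtype.val h
    have h'' : σ ((y : R) * (x : R)⁻¹) = (y : R) * (x : R)⁻¹ := by
      rw [map_mul, map_inv, eq_comm]
      have := congrArg (fun t => (y : R) * t * (σ (x : R))⁻¹) h'
      simpa [mul_assoc] using this
    exact (mul_inv_eq_one.1 (hfpf _ h'')).symm
  obtain ⟨n, hn⟩ := hsurj ⟨_, h2⟩
  have hn' : (n : R)⁻¹ * σ n = g⁻¹ * σ g := congrArg Subtype.val hn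
  have hfix : σ (g * (n : R)⁻¹) = g * (n : R)⁻¹ := by
    rw [map_mul, map_inv]
    have := congrArg (fun t => g * t * (σ (n : R))⁻¹) hn'
    simpa [mul_assoc] using this.symm
  have hgN : g ∈ N := by
    rw [mul_inv_eq_one.1 (hfpf _ hfix)]
    exact n.2
  rw [← hg]
  exact Sylow.smul_eq_iff_mem_normalizer.2 hgN

/-- An invariant `q`-subgroup lies in the invariant Sylow subgroup. -/
theorem le_invariant_sylow (hfpf : ∀ x, σ x = x → x = 1) {q : ℕ} [Fact q.Prime]
    (P : Sylow q R) (hP : (P : Subgroup R).map σ.toMonoidHom = P) {U : Subgroup R}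
    (hU : IsPGroup q U) (hUσ : U.map σ.toMonoidHom = U) : U ≤ P := by
  obtain ⟨V, hUV, ⟨hVp, hVσ⟩, hmax⟩ := Finite.exists_le_maximal
    (p := fun S : Subgroup R => IsPGroup q S ∧ S.map σ.toMonoidHom = S) ⟨hU, hUσ⟩
  set N : Subgroup R := Subgroup.normalizer (V : Set R) with hN
  have hVN : V ≤ N := Subgroup.le_normalizer
  obtain ⟨τ, hτfpf, hτ⟩ : ∃ τ : MulAut N, (∀ x, τ x = x → x = 1) ∧
      ∀ x : N, ((τ x : N) : R) = σ x :=
    ⟨(σ.subgroupMap N).trans (MulEquiv.subgroupCongr (map_normalizer hVσ)),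
      fun x hx => Subtype.ext (hfpf x (congrArg Subtype.val hx)), fun _ => rfl⟩
  obtain ⟨Q, hQ⟩ := exists_invariant_sylow (p := q) hτfpf
  haveI : (Subgroup.comap N.subtype V).Normal := Subgroup.normal_in_normalizer
  have hVQ : V ≤ (Q : Subgroup N).map N.subtype := fun v hv =>
    ⟨⟨v, hVN hv⟩, (hVp.comap_subtype (K := N)).le_sylow_of_normal Q hv, rfl⟩
  have hQV : (Q : Subgroup N).map N.subtype = V := by
    refine le_antisymm (hmax ⟨Q.isPGroup'.map _, map_eq_of_forall ?_⟩ hVQ) hVQ
    rintro x ⟨y, hy, rfl⟩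
    exact ⟨τ y, apply_mem hQ hy, hτ y⟩
  obtain ⟨T, hT⟩ := hVp.exists_le_sylow
  have hVT : V = T := by
    by_contra hne
    have hlt : V.subgroupOf (T : Subgroup R) < ⊤ := lt_top_iff_ne_top.2 fun h =>
      hne (le_antisymm hT (Subgroup.subgroupOf_eq_top.1 h))
    haveI := T.isPGroup'.isNilpotent
    obtain ⟨x, hx, hxV⟩ := SetLike.exists_of_lt
      (Group.normalizerCondition_of_isNilpotent _ hlt)
    have hxN : (x : R) ∈ N := by
      rw [hN, Subgroup.mem_normalizer_iff]
      rw [Subgroup.mem_normalizer_iff] at hx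
      intro v
      constructor
      · intro hv
        exact (hx ⟨v, hT hv⟩).1 hv
      · intro hv
        have hvT : v ∈ (T : Subgroup R) := by
          have := mul_mem (mul_mem (inv_mem x.2) (hT hv)) x.2
          simpa [mul_assoc] using this
        exact (hx ⟨v, hvT⟩).2 hv
    have hle : (Q : Subgroup N) ≤ (T : Subgroup R).subgroupOf N := fun y hy =>
      hT (hQV ▸ Subgroup.mem_map_of_mem N.subtype hy)
    have heq := Q.is_maximal' (T.isPGroup'.comap_subtype (K := N)) hle
    have hxQ : (⟨(x : R), hxN⟩ : N) ∈ (Q : Subgroup N) := heq ▸ x.2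
    exact hxV (show (x : R) ∈ V from hQV ▸ Subgroup.mem_map_of_mem N.subtype hxQ)
  have hTP : T = P := invariant_sylow_unique hfpf P T hP (hVT ▸ hVσ)
  exact hUV.trans (hVT.trans (by rw [hTP])).le

theorem isPGroup_of_nilpotent_closure {W : Subgroup R} (hW : Group.IsNilpotent W) {q : ℕ}
    [Fact q.Prime] {S : Set R} (hWS : W = Subgroup.closure S)
    (hS : ∀ y ∈ S, ∃ k : ℕ, y ^ q ^ k = 1) : IsPGroup q W := by
  obtain ⟨Q⟩ : Nonempty (Sylow q W) := inferInstance
  haveI := hW
  haveI : (Q : Subgroup W).Normal := inferInstance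
  have hle : W ≤ (Q : Subgroup W).map W.subtype := by
    conv_lhs => rw [hWS]
    rw [Subgroup.closure_le]
    intro y hy
    have hyW : y ∈ W := hWS ▸ Subgroup.subset_closure hy
    obtain ⟨k, hk⟩ := hS y hy
    have hp : IsPGroup q (Subgroup.zpowers (⟨y, hyW⟩ : W)) := by
      rintro ⟨z, m, rfl⟩
      refine ⟨k, Subtype.ext (Subtype.ext ?_)⟩
      simp only [SubgroupClass.coe_pow, SubgroupClass.coe_zpow, OneMemClass.coe_one]
      rw [← zpow_natCast, ← zpow_mul, mul_comm, zpow_mul, zpow_natCast, hk, one_zpow]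
    obtain ⟨Q', hQ'⟩ := hp.exists_le_sylow
    have : Q' = Q :=
      Sylow.ext (Q.is_maximal' Q'.isPGroup' (IsPGroup.le_sylow_of_normal Q.isPGroup' Q'))
    exact ⟨⟨y, hyW⟩, this ▸ hQ' (Subgroup.mem_zpowers _), rfl⟩
  exact (Q.isPGroup'.map W.subtype).to_le hle

/-- Inverted `q`-elements lie in the invariant Sylow `q`-subgroup, with their conjugates. -/
theorem conj_mem_sylow (h4 : σ ^ 4 = 1) (hfpf : ∀ x, σ x = x → x = 1) {q : ℕ} [Fact q.Prime]
    (P : Sylow q R) (hP : (P : Subgroup R).map σ.toMonoidHom = P) {x d : R}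
    (hx : σ (σ x) = x⁻¹) (hq : ∃ k : ℕ, x ^ q ^ k = 1) (hd : σ (σ d) = d) :
    d * x * d⁻¹ ∈ P := by
  set W := Subgroup.closure (genSet σ x) with hW
  have hσx : σ (σ (σ x)) = (σ x)⁻¹ := by rw [hx, map_inv]
  have hWσ : W.map σ.toMonoidHom = W := by
    refine map_eq_of_forall ?_
    intro y hy
    refine (Subgroup.closure_le (W.comap σ.toMonoidHom)).2 ?_ hy
    rintro w ⟨f, hf, rfl | rfl⟩
    · refine Subgroup.subset_closure ⟨f⁻¹, by simp [hf], Or.inr ?_⟩
      simp [sigma_eq_inv h4 hfpf hf]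
    · have h1 : f⁻¹ * x * f⁻¹⁻¹ ∈ W := Subgroup.subset_closure ⟨f⁻¹, by simp [hf], Or.inl rfl⟩
      have h2 := inv_mem h1
      simp only [SetLike.mem_coe, Subgroup.mem_comap, MulEquiv.coe_toMonoidHom, map_mul, map_inv,
        sigma_eq_inv h4 hfpf hf, hx, inv_inv] at h2 ⊢
      simpa [mul_assoc] using h2
  have hord : ∀ y ∈ genSet σ x, ∃ k : ℕ, y ^ q ^ k = 1 := by
    obtain ⟨k, hk⟩ := hq
    rintro y ⟨f, -, rfl | rfl⟩
    · exact ⟨k, by rw [conj_pow, hk, mul_one, mul_inv_cancel]⟩
    · exact ⟨k, by rw [conj_pow, ← map_pow, hk, map_one, mul_one, mul_inv_cancel]⟩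
  have base : ∀ f e : R, σ (σ f) = f → σ (σ e) = e → ∀ w ∈ genSet σ x,
      Commute ((f * x * f⁻¹)⁻¹ * (e * x * e⁻¹) * (f * x * f⁻¹) * (e * x * e⁻¹)⁻¹) w ∧
      Commute ((f * σ x * f⁻¹)⁻¹ * (e * σ x * e⁻¹) * (f * σ x * f⁻¹) * (e * σ x * e⁻¹)⁻¹) w := by
    intro f e hf he w hw
    have hfe : σ (σ (e⁻¹ * f)) = e⁻¹ * f := by simp [hf, he]
    obtain ⟨g, hg, hw'⟩ := hw
    have hg' : σ (σ (e⁻¹ * g)) = e⁻¹ * g := by simp [hg, he]
    constructor
    · have h := (commutator_central h4 hfpf hx hfe (e⁻¹ * w * e) ⟨e⁻¹ * g, hg', ?_⟩).map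
        (MulAut.conj e).toMonoidHom
      · simpa [mul_assoc] using h
      · rcases hw' with rfl | rfl
        · left; group
        · right; group
    · rcases hw' with rfl | rfl
      · have h := ((commutator_central h4 hfpf hσx hfe (e⁻¹ * (g * x⁻¹ * g⁻¹) * e)
          ⟨e⁻¹ * g, hg', Or.inr (by rw [hx]; group)⟩).map (MulAut.conj e).toMonoidHom).inv_right
        simpa [mul_assoc] using h
      · have h := (commutator_central h4 hfpf hσx hfe (e⁻¹ * (g * σ x * g⁻¹) * e)
          ⟨e⁻¹ * g, hg', Or.inl (by group)⟩).map (MulAut.conj e).toMonoidHom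
        simpa [mul_assoc] using h
  -- the generators commute modulo the centre
  have hgen : ∀ y ∈ genSet σ x, ∀ y' ∈ genSet σ x, (hy : y ∈ W) → (hy' : y' ∈ W) →
      Commute (QuotientGroup.mk' (Subgroup.center W) ⟨y, hy⟩)
        (QuotientGroup.mk' (Subgroup.center W) ⟨y', hy'⟩) := by
    have hmk : ∀ {u v : R} (hu : u ∈ W) (hv : v ∈ W),
        (∀ w ∈ genSet σ x, Commute (u⁻¹ * v * u * v⁻¹) w) →
        Commute (QuotientGroup.mk' (Subgroup.center W) ⟨u, hu⟩)
          (QuotientGroup.mk' (Subgroup.center W) ⟨v, hv⟩) := by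
      intro u v hu hv h
      have hc : (⟨u, hu⟩⁻¹ * ⟨v, hv⟩ * ⟨u, hu⟩ * ⟨v, hv⟩⁻¹ : W) ∈ Subgroup.center W := by
        rw [Subgroup.mem_center_iff]
        rintro ⟨w, hw⟩
        apply Subtype.ext
        have : W ≤ Subgroup.centralizer {u⁻¹ * v * u * v⁻¹} :=
          (Subgroup.closure_le _).2 fun t ht =>
            Subgroup.mem_centralizer_singleton_iff.2 (h t ht).eq.symm
        exact Subgroup.mem_centralizer_singleton_iff.1 (this hw)
      have h1 := (QuotientGroup.eq_one_iff _).2 hc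
      rw [← QuotientGroup.mk'_apply (Subgroup.center W), map_mul, map_mul, map_mul, map_inv,
        map_inv, mul_inv_eq_one, mul_assoc, inv_mul_eq_iff_eq_mul] at h1
      exact h1.symm
    intro y hy1 y' hy2 hy hy'
    obtain ⟨f, hf, hy3⟩ := hy1
    obtain ⟨e, he, hy4⟩ := hy2
    rcases hy3 with rfl | rfl <;> rcases hy4 with rfl | rfl
    · exact hmk hy hy' fun w hw => (base f e hf he w hw).1
    · exact (show Commute (⟨_, hy⟩ : W) ⟨_, hy'⟩ from
        Subtype.ext (key_conj h4 hfpf hx he hf).eq).map _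
    · exact ((show Commute (⟨_, hy'⟩ : W) ⟨_, hy⟩ from
        Subtype.ext (key_conj h4 hfpf hx hf he).eq).map _).symm
    · exact hmk hy hy' fun w hw => (base f e hf he w hw).2
  have hnil : Group.IsNilpotent W := by
    refine Group.of_quotient_center_nilpotent ?_
    have htop : Subgroup.closure ((Subtype.val : W → R) ⁻¹' genSet σ x) = ⊤ :=
      Subgroup.closure_closure_coe_preimage
    have h1 : ∀ v : W, (v : R) ∈ genSet σ x → ∀ w : W,
        Commute (QuotientGroup.mk' (Subgroup.center W) v)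
          (QuotientGroup.mk' (Subgroup.center W) w) := by
      intro v hv w
      have hle : (⊤ : Subgroup W) ≤ (Subgroup.centralizer
          {QuotientGroup.mk' (Subgroup.center W) v}).comap (QuotientGroup.mk' _) := by
        rw [← htop, Subgroup.closure_le]
        intro t ht
        exact Subgroup.mem_centralizer_singleton_iff.2 (hgen _ ht _ hv t.2 v.2).eq
      exact (Subgroup.mem_centralizer_singleton_iff.1 (hle (Subgroup.mem_top w))).symm
    have h2 : ∀ a b : W, Commute (QuotientGroup.mk' (Subgroup.center W) a)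
        (QuotientGroup.mk' (Subgroup.center W) b) := by
      intro a b
      have hle : (⊤ : Subgroup W) ≤ (Subgroup.centralizer
          {QuotientGroup.mk' (Subgroup.center W) b}).comap (QuotientGroup.mk' _) := by
        rw [← htop, Subgroup.closure_le]
        intro t ht
        exact Subgroup.mem_centralizer_singleton_iff.2 (h1 t ht b).eq
      exact Subgroup.mem_centralizer_singleton_iff.1 (hle (Subgroup.mem_top a))
    letI : CommGroup (W ⧸ Subgroup.center W) :=
      { (inferInstance : Group (W ⧸ Subgroup.center W)) with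
        mul_comm := fun a b => by
          obtain ⟨a, rfl⟩ := QuotientGroup.mk'_surjective (Subgroup.center W) a
          obtain ⟨b, rfl⟩ := QuotientGroup.mk'_surjective (Subgroup.center W) b
          exact h2 a b }
    exact CommGroup.isNilpotent
  exact le_invariant_sylow hfpf P hP (isPGroup_of_nilpotent_closure hnil hW hord) hWσ
    (Subgroup.subset_closure ⟨d, hd, Or.inl rfl⟩)

/-- The inverted elements. -/
def invSet (σ : MulAut R) : Set R := {x | σ (σ x) = x⁻¹}

/-- In an invariant subgroup, inverted elements form a transversal to the fixed ones. -/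
theorem card_inv_mul_fixed (h4 : σ ^ 4 = 1) (hfpf : ∀ x, σ x = x → x = 1) {H : Subgroup R}
    (hH : H.map σ.toMonoidHom = H) :
    Nat.card ↥(invSet σ ∩ H) * Nat.card ↥(fixedSub σ ⊓ H) = Nat.card H := by
  rw [← Nat.card_prod]
  refine Nat.card_congr (Equiv.ofBijective
    (fun p => (⟨(p.1 : R) * p.2, mul_mem p.1.2.2 p.2.2.2⟩ : H)) ⟨?_, ?_⟩)
  · rintro ⟨⟨x, hx, hxH⟩, ⟨d, hd, hdH⟩⟩ ⟨⟨y, hy, hyH⟩, ⟨e, he, heH⟩⟩ h
    have h' : x * d = y * e := congrArg Subtype.val h
    change σ (σ x) = x⁻¹ at hx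
    change σ (σ y) = y⁻¹ at hy
    change σ (σ d) = d at hd
    change σ (σ e) = e at he
    have h1 : x⁻¹ * d = y⁻¹ * e := by
      have := congrArg (fun t => σ (σ t)) h'
      simpa [hx, hy, hd, he] using this
    have h2 : y⁻¹ * x = e * d⁻¹ := by
      rw [inv_mul_eq_iff_eq_mul, ← mul_assoc, ← h', mul_inv_cancel_right]
    have h3 : y * x⁻¹ = e * d⁻¹ := by
      have := congrArg (fun t => y * t * d⁻¹) h1
      simpa [mul_assoc] using this
    have h5 : y * y = x * x := by
      have h6 : y⁻¹ * x = y * x⁻¹ := h2.trans h3.symm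
      have := congrArg (fun t => y * t * x) h6
      simpa [mul_assoc] using this.symm
    have hn := Nat.coprime_two_left.2 (odd_card h4 hfpf)
    have hxy : y = x := (powCoprime hn.symm).injective (by simpa [powCoprime, sq] using h5)
    subst hxy
    have : d = e := mul_left_cancel h'
    subst this
    rfl
  · rintro ⟨r, hr⟩
    have hr' : σ (σ r) ∈ H := apply_mem hH (apply_mem hH hr)
    set c := r * (σ (σ r))⁻¹ with hc
    have hσ4 : σ (σ (σ (σ r))) = r := by
      have := DFunLike.congr_fun h4 r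
      simpa [pow_succ, pow_zero] using this
    have hcz : σ (σ c) = c⁻¹ := by simp [hc, hσ4]
    obtain ⟨m, hm⟩ := odd_card h4 hfpf
    set x := c ^ (m + 1) with hx
    have hxz : σ (σ x) = x⁻¹ := by rw [hx, map_pow, map_pow, hcz, inv_pow]
    have hxx : x * x = c := by
      rw [hx, ← pow_add, show m + 1 + (m + 1) = Nat.card R + 1 by omega, pow_succ,
        pow_card_eq_one', one_mul]
    have hxH : x ∈ H := pow_mem (mul_mem hr (inv_mem hr')) _
    refine ⟨⟨⟨x, hxz, hxH⟩, ⟨x⁻¹ * r, ?_, H.mul_mem (H.inv_mem hxH) hr⟩⟩,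
      Subtype.ext (mul_inv_cancel_left x r)⟩
    change σ (σ (x⁻¹ * r)) = x⁻¹ * r
    rw [map_mul, map_mul, map_inv, map_inv, hxz, inv_inv, eq_inv_mul_iff_mul_eq, ← mul_assoc,
      hxx, hc, inv_mul_cancel_right]

/-- Gorenstein–Herstein. -/
theorem isSolvable (σ : MulAut R) (h4 : σ ^ 4 = 1) (hfpf : ∀ x, σ x = x → x = 1) :
    Group.IsSolvable R := by
  classical
  set s := (Nat.card R).primeFactors with hs
  have hSyl : ∀ q : s, ∃ P : Subgroup R,
      (∀ x : R, σ (σ x) = x⁻¹ → (∃ k : ℕ, x ^ (q : ℕ) ^ k = 1) → x ∈ P) ∧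
      IsPGroup q P ∧
      Nat.card ↥(invSet σ ∩ P) = (q : ℕ) ^ (Nat.card ↥(invSet σ)).factorization q := by
    intro q
    haveI : Fact (q : ℕ).Prime := ⟨Nat.prime_of_mem_primeFactors q.2⟩
    obtain ⟨P, hP⟩ := exists_invariant_sylow (p := (q : ℕ)) hfpf
    refine ⟨(P : Subgroup R), fun x hx hq => (show x ∈ P by
      simpa using conj_mem_sylow h4 hfpf P hP hx hq (d := 1) (by simp)),
      P.isPGroup', ?_⟩
    obtain ⟨Q⟩ : Nonempty (Sylow (q : ℕ) (fixedSub σ)) := inferInstance
    have hQP : (Q : Subgroup (fixedSub σ)).map (fixedSub σ).subtype ≤ P := by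
      refine le_invariant_sylow hfpf P hP (Q.isPGroup'.map _) (map_eq_of_forall ?_)
      rintro y ⟨w, hw, rfl⟩
      refine ⟨w⁻¹, inv_mem hw, ?_⟩
      exact (sigma_eq_inv h4 hfpf w.2).symm
    have hfix : Nat.card ↥(fixedSub σ ⊓ (P : Subgroup R)) =
        (q : ℕ) ^ (Nat.card (fixedSub σ)).factorization q := by
      have hle : (Q : Subgroup (fixedSub σ)) ≤ (P : Subgroup R).subgroupOf (fixedSub σ) :=
        fun w hw => hQP (Subgroup.mem_map_of_mem _ hw)
      have heq := Q.is_maximal' (P.isPGroup'.comap_subtype (K := fixedSub σ)) hle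
      rw [← Q.card_eq_multiplicity, ← heq]
      exact Nat.card_congr
        { toFun := fun w => ⟨⟨(w : R), w.2.1⟩, w.2.2⟩
          invFun := fun w => ⟨((w : fixedSub σ) : R), w.1.2, w.2⟩
          left_inv := fun _ => rfl
          right_inv := fun _ => rfl }
    have hall := card_inv_mul_fixed h4 hfpf (H := ⊤) (map_eq_of_forall fun x _ => trivial)
    rw [inf_top_eq, Subgroup.card_top, Subgroup.coe_top, Set.inter_univ] at hall
    have hmul := card_inv_mul_fixed h4 hfpf hP
    rw [hfix, P.card_eq_multiplicity, ← hall, Nat.factorization_mul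
      (by intro h; rw [h, zero_mul] at hall; exact Nat.card_pos.ne hall) Nat.card_pos.ne'] at hmul
    rw [Finsupp.add_apply, pow_add] at hmul
    exact Nat.eq_of_mul_eq_mul_right (pow_pos (Fact.out : (q : ℕ).Prime).pos _) hmul
  choose S hmemS hpS hcardS using hSyl
  set n := Nat.card R with hn
  have hn0 : n ≠ 0 := Nat.card_pos.ne'
  let m : s → ℕ := fun q => n / (q : ℕ) ^ n.factorization q
  have hsplit : ∀ q : s, (q : ℕ) ^ n.factorization q * m q = n := fun q =>
    Nat.mul_div_cancel' (Nat.ordProj_dvd n q)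
  -- an element is determined by its powers `x ^ m q`
  have hdet : ∀ x y : R, (∀ q : s, x ^ m q = y ^ m q) → x = y := by
    intro x y h
    let E : AddSubgroup ℤ :=
      { carrier := {k | x ^ k = y ^ k}
        zero_mem' := by simp
        add_mem' := fun {a b} ha hb => by
          simp only [Set.mem_ofPred_eq] at *; rw [zpow_add, zpow_add, ha, hb]
        neg_mem' := fun {a} ha => by simp only [Set.mem_ofPred_eq] at *; rw [zpow_neg, zpow_neg, ha] }
    obtain ⟨a, ha⟩ := Int.subgroup_cyclic E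
    have hmem : ∀ k : ℕ, x ^ k = y ^ k → a.natAbs ∣ k := by
      intro k hk
      have : (k : ℤ) ∈ E := by
        change x ^ (k : ℤ) = y ^ (k : ℤ); simpa using hk
      rw [ha, AddSubgroup.mem_closure_singleton] at this
      obtain ⟨c, hc⟩ := this
      exact Int.natCast_dvd_natCast.1 (Int.natAbs_dvd.2 ⟨c, by rw [← hc, smul_eq_mul, mul_comm]⟩)
    have han : a.natAbs ∣ n := hmem n (by simp [hn])
    have h1 : a.natAbs = 1 := by
      by_contra hne
      obtain ⟨p, hp, hpa⟩ := Nat.exists_prime_and_dvd hne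
      have hps : p ∈ s := Nat.mem_primeFactors.2 ⟨hp, hpa.trans han, hn0⟩
      exact Nat.not_dvd_ordCompl hp hn0 (hpa.trans (hmem (m ⟨p, hps⟩) (h ⟨p, hps⟩)))
    have h2 : (1 : ℤ) ∈ E := by
      rw [ha, AddSubgroup.mem_closure_singleton]
      rcases Int.natAbs_eq_iff.1 h1 with rfl | rfl
      · exact ⟨1, by simp⟩
      · exact ⟨-1, by simp⟩
    simpa using (show x ^ (1 : ℤ) = y ^ (1 : ℤ) from h2)
  have hpart : ∀ (x : invSet σ) (q : s), (x : R) ^ m q ∈ invSet σ ∩ (S q : Set R) := by
    intro x q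
    have hx : σ (σ (x : R)) = (x : R)⁻¹ := x.2
    have h1 : σ (σ ((x : R) ^ m q)) = ((x : R) ^ m q)⁻¹ := by rw [map_pow, map_pow, hx, inv_pow]
    refine ⟨h1, hmemS q _ h1 ⟨n.factorization q, ?_⟩⟩
    rw [← pow_mul, mul_comm, hsplit, hn, pow_card_eq_one']
  let Φ : invSet σ → ∀ q : s, ↥(invSet σ ∩ (S q : Set R)) := fun x q => ⟨_, hpart x q⟩
  have hΦinj : Function.Injective Φ := fun x y h => Subtype.ext (hdet _ _ fun q =>
    congrArg Subtype.val (congrFun h q))
  have hall := card_inv_mul_fixed h4 hfpf (H := (⊤ : Subgroup R))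
    (map_eq_of_forall fun x _ => trivial)
  rw [inf_top_eq, Subgroup.card_top, Subgroup.coe_top, Set.inter_univ] at hall
  have hcard : Nat.card (∀ q : s, ↥(invSet σ ∩ (S q : Set R))) = Nat.card (invSet σ) := by
    rw [Nat.card_pi, Finset.prod_congr rfl fun q _ => hcardS q]
    have hI0 : Nat.card (invSet σ) ≠ 0 := fun h => hn0 (by rw [hn, ← hall, h, zero_mul])
    have hsub : (Nat.card (invSet σ)).factorization.support ⊆ s := by
      rw [Nat.support_factorization]
      exact Nat.primeFactors_mono ⟨_, hall.symm⟩ hn0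
    conv_rhs => rw [← Nat.prod_factorization_pow_eq_self hI0,
      Finsupp.prod_of_support_subset _ hsub (fun p k => p ^ k) (fun p _ => pow_zero p)]
    exact Finset.prod_coe_sort s fun q => q ^ (Nat.card (invSet σ)).factorization q
  have hΦsurj : Function.Surjective Φ :=
    ((Nat.bijective_iff_injective_and_card Φ).2 ⟨hΦinj, hcard.symm⟩).2
  have hcomm : ∀ p q : s, p ≠ q → ∀ u ∈ invSet σ ∩ (S p : Set R), ∀ v ∈ invSet σ ∩ (S q : Set R),
      Commute u v := by
    intro p q hpq u hu v hv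
    have h1 : ∀ r : s, (1 : R) ∈ invSet σ ∩ (S r : Set R) := fun r =>
      ⟨by simp [invSet], one_mem _⟩
    obtain ⟨x, hx⟩ := hΦsurj
      (Function.update (Function.update (fun r => ⟨1, h1 r⟩) p ⟨u, hu⟩) q ⟨v, hv⟩)
    have hp := congrArg Subtype.val (congrFun hx p)
    have hq := congrArg Subtype.val (congrFun hx q)
    rw [Function.update_of_ne hpq, Function.update_self] at hp
    rw [Function.update_self] at hq
    simp only [Φ] at hp hq
    rw [← hp, ← hq]
    exact (Commute.refl (x : R)).pow_pow _ _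
  -- the subgroup generated by the inverted elements
  let T : s → Subgroup R := fun q => Subgroup.closure (invSet σ ∩ (S q : Set R))
  have hT : Pairwise fun p q : s => ∀ x y : R, x ∈ T p → y ∈ T q → Commute x y := by
    intro p q hpq x y hx hy
    have h1 : T p ≤ Subgroup.centralizer (invSet σ ∩ (S q : Set R)) :=
      (Subgroup.closure_le _).2 fun u hu v hv => (hcomm p q hpq u hu v hv).symm.eq
    have h2 : T q ≤ Subgroup.centralizer {x} :=
      (Subgroup.closure_le _).2 fun v hv =>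
        Subgroup.mem_centralizer_singleton_iff.2 (h1 hx v hv)
    exact (Subgroup.mem_centralizer_singleton_iff.1 (h2 hy)).symm
  haveI hTn : ∀ q : s, Group.IsNilpotent (T q) := fun q =>
    haveI : Fact (q : ℕ).Prime := ⟨Nat.prime_of_mem_primeFactors q.2⟩
    ((hpS q).to_le ((Subgroup.closure_le _).2 Set.inter_subset_right)).isNilpotent
  let ν := Subgroup.noncommPiCoprod hT
  set N : Subgroup R := ⨆ q, T q with hN
  have hνrange : ν.range = N := Subgroup.noncommPiCoprod_range
  have hNsol : Group.IsSolvable N := by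
    rw [← hνrange]
    exact Group.isSolvable_of_surjective ν.rangeRestrict_surjective
  -- every inverted element lies in `N`
  have hIN : invSet σ ⊆ (N : Set R) := by
    intro x hx
    let E : AddSubgroup ℤ :=
      { carrier := {k | x ^ k ∈ N}
        zero_mem' := by simp
        add_mem' := fun {a b} ha hb => by
          simp only [Set.mem_ofPred_eq] at *; rw [zpow_add]; exact mul_mem ha hb
        neg_mem' := fun {a} ha => by
          simp only [Set.mem_ofPred_eq] at *; rw [zpow_neg]; exact inv_mem ha }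
    obtain ⟨a, ha⟩ := Int.subgroup_cyclic E
    have hmem : ∀ k : ℕ, x ^ k ∈ N → a.natAbs ∣ k := by
      intro k hk
      have : (k : ℤ) ∈ E := by
        change x ^ (k : ℤ) ∈ N; simpa using hk
      rw [ha, AddSubgroup.mem_closure_singleton] at this
      obtain ⟨c, hc⟩ := this
      exact Int.natCast_dvd_natCast.1 (Int.natAbs_dvd.2 ⟨c, by rw [← hc, smul_eq_mul, mul_comm]⟩)
    have h1 : a.natAbs = 1 := by
      by_contra hne
      obtain ⟨p, hp, hpa⟩ := Nat.exists_prime_and_dvd hne
      have han : a.natAbs ∣ n := hmem n (by simp [hn])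
      have hps : p ∈ s := Nat.mem_primeFactors.2 ⟨hp, hpa.trans han, hn0⟩
      refine Nat.not_dvd_ordCompl hp hn0 (hpa.trans (hmem (m ⟨p, hps⟩) ?_))
      exact Subgroup.mem_iSup_of_mem ⟨p, hps⟩ (Subgroup.subset_closure (hpart ⟨x, hx⟩ _))
    have h2 : (1 : ℤ) ∈ E := by
      rw [ha, AddSubgroup.mem_closure_singleton]
      rcases Int.natAbs_eq_iff.1 h1 with rfl | rfl
      · exact ⟨1, by simp⟩
      · exact ⟨-1, by simp⟩
    have h3 : x ^ (1 : ℤ) ∈ N := h2
    simpa using h3
  have hNI : N = Subgroup.closure (invSet σ) :=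
    le_antisymm (iSup_le fun q => Subgroup.closure_mono Set.inter_subset_left)
      ((Subgroup.closure_le _).2 hIN)
  have hdec : ∀ r : R, ∃ x ∈ invSet σ, ∃ d ∈ fixedSub σ, r = x * d := by
    intro r
    obtain ⟨m', hm'⟩ := odd_card h4 hfpf
    set c := r * (σ (σ r))⁻¹ with hc
    have hσ4 : σ (σ (σ (σ r))) = r := by
      have := DFunLike.congr_fun h4 r
      simpa [pow_succ, pow_zero] using this
    have hcz : σ (σ c) = c⁻¹ := by simp [hc, hσ4]
    have hxz : σ (σ (c ^ (m' + 1))) = (c ^ (m' + 1))⁻¹ := by rw [map_pow, map_pow, hcz, inv_pow]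
    refine ⟨c ^ (m' + 1), hxz, (c ^ (m' + 1))⁻¹ * r, ?_, (mul_inv_cancel_left _ r).symm⟩
    change σ (σ ((c ^ (m' + 1))⁻¹ * r)) = (c ^ (m' + 1))⁻¹ * r
    rw [map_mul, map_mul, map_inv, map_inv, hxz, inv_inv, eq_inv_mul_iff_mul_eq, ← mul_assoc,
      ← pow_add, show m' + 1 + (m' + 1) = Nat.card R + 1 by omega, pow_succ, pow_card_eq_one',
      one_mul, hc, inv_mul_cancel_right]
  have hDn : ∀ d ∈ fixedSub σ, ∀ y ∈ N, d * y * d⁻¹ ∈ N := by
    intro d hd y hy
    rw [hNI] at hy ⊢
    have : Subgroup.closure (invSet σ) ≤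
        (Subgroup.closure (invSet σ)).comap (MulAut.conj d).toMonoidHom :=
      (Subgroup.closure_le _).2 fun w hw => by
        refine Subgroup.subset_closure ?_
        change σ (σ (d * w * d⁻¹)) = (d * w * d⁻¹)⁻¹
        simp [show σ (σ d) = d from hd, show σ (σ w) = w⁻¹ from hw, mul_assoc]
    exact this hy
  haveI : N.Normal := by
    refine ⟨fun y hy r => ?_⟩
    obtain ⟨x, hx, d, hd, rfl⟩ := hdec r
    have h := mul_mem (mul_mem (hIN hx) (hDn d hd y hy)) (inv_mem (hIN hx))
    simpa [mul_assoc] using h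
  have hcq : ∀ a b : R ⧸ N, a * b = b * a := by
    intro a b
    obtain ⟨r, rfl⟩ := QuotientGroup.mk_surjective a
    obtain ⟨r', rfl⟩ := QuotientGroup.mk_surjective b
    obtain ⟨x, hx, d, hd, rfl⟩ := hdec r
    obtain ⟨x', hx', d', hd', rfl⟩ := hdec r'
    have h1 : ((x : R) : R ⧸ N) = 1 := (QuotientGroup.eq_one_iff x).2 (hIN hx)
    have h2 : ((x' : R) : R ⧸ N) = 1 := (QuotientGroup.eq_one_iff x').2 (hIN hx')
    simp only [QuotientGroup.mk_mul, h1, h2, one_mul]
    exact ((commute_fixed h4 hfpf hd hd').map (QuotientGroup.mk' N)).eq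
  haveI := hNsol
  haveI : Group.IsSolvable (R ⧸ N) := Group.isSolvable_of_comm hcq
  exact Group.isSolvable_of_ker_le_range N.subtype (QuotientGroup.mk' N) (by simp)

end Cfsg.Agent.FpfFour
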